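import Mathlib.AlgebraicGeometry.Morphisms.Finite
import Mathlib.AlgebraicGeometry.ResidueField
import Mathlib.LinearAlgebra.Dimension.Constructions
import Mathlib.LinearAlgebra.FiniteDimensional.Basic

/-!
Uniform bounds for residue field degrees of finite morphisms.
-/

universe u

open CategoryTheory AlgebraicGeometry

namespace Groth.Agent.ResDeg95

/-- A finite dimensional subspace of a field extension which is closed under multiplication, contains
one and generates the field under division is everything. -/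
theorem eq_top_of_mul_mem_of_div {K L : Type*} [Field K] [Field L] [Algebra K L] (A : Submodule K L)
    [FiniteDimensional K A] (h1 : (1 : L) ∈ A) (hmul : ∀ x ∈ A, ∀ y ∈ A, x * y ∈ A)
    (hdiv : ∀ x : L, ∃ b ∈ A, ∃ c ∈ A, c ≠ 0 ∧ x * c = b) : A = ⊤ := by
  refine eq_top_iff.mpr fun x _ => ?_
  obtain ⟨b, hb, c, hc, hc0, hx⟩ := hdiv x
  let m : A →ₗ[K] A := ((LinearMap.mulLeft K c).restrict (fun y hy => hmul c hc y hy))
  have hm : Function.Injective m := fun y z h => Subtype.ext (mul_left_cancel₀ hc0 (congrArg Subtype.val h))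
  obtain ⟨d, hd⟩ := (LinearMap.injective_iff_surjective.mp hm) ⟨1, h1⟩
  have hd' : c * (d : L) = 1 := congrArg Subtype.val hd
  have : x = b * d := by rw [← hx, mul_assoc, hd', mul_one]
  exact this ▸ hmul b hb d d.2

/-- Over an affine open, the residue field degrees of a finite morphism are bounded by the number
of module generators. -/
theorem exists_bound_of_isAffineOpen {T' T : Scheme.{u}} (p : T' ⟶ T) [IsFinite p] {U : T.Opens}
    (hU : IsAffineOpen U) :
    ∃ n : ℕ, ∀ (t' : T'), p t' ∈ U →
      letI := (p.residueFieldMap t').hom.toAlgebra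
      FiniteDimensional (T.residueField (p t')) (T'.residueField t') ∧
        Module.finrank (T.residueField (p t')) (T'.residueField t') ≤ n := by
  letI := (p.app U).hom.toAlgebra
  have hfin : Module.Finite Γ(T, U) Γ(T', p ⁻¹ᵁ U) := p.finite_app U hU
  obtain ⟨s, hs⟩ := hfin.fg_top
  classical
  refine ⟨s.card, fun t' ht => ?_⟩
  letI := (p.residueFieldMap t').hom.toAlgebra
  let ev := (T'.evaluation (p ⁻¹ᵁ U) t' ht).hom
  let A : Submodule (T.residueField (p t')) (T'.residueField t') :=
    Submodule.span _ ((s.image ev : Finset _) : Set _)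
  have hev : ∀ b, ev b ∈ A := by
    intro b
    have hb : b ∈ Submodule.span Γ(T, U) (s : Set Γ(T', p ⁻¹ᵁ U)) := hs ▸ Submodule.mem_top
    induction hb using Submodule.span_induction with
    | mem x hx => exact Submodule.subset_span (Finset.mem_coe.mpr (Finset.mem_image_of_mem _ hx))
    | zero => rw [map_zero]; exact A.zero_mem
    | add x y _ _ hx hy => rw [map_add]; exact A.add_mem hx hy
    | smul a x _ hx =>
      rw [Algebra.smul_def, map_mul]
      have : ev (algebraMap Γ(T, U) Γ(T', p ⁻¹ᵁ U) a) =
          algebraMap (T.residueField (p t')) (T'.residueField t') (T.evaluation U (p t') ht a) :=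
        (Scheme.evaluation_naturality_apply p t' ht a).symm
      rw [this, ← Algebra.smul_def]
      exact A.smul_mem _ hx
  have h1 : (1 : T'.residueField t') ∈ A := map_one ev ▸ hev 1
  have hA : A = Submodule.span _ (Set.range ev) := by
    refine le_antisymm (Submodule.span_mono ?_) (Submodule.span_le.mpr ?_)
    · rw [Finset.coe_image]; exact Set.image_subset_range _ _
    · rintro _ ⟨b, rfl⟩; exact hev b
  have hmul : ∀ x ∈ A, ∀ y ∈ A, x * y ∈ A := by
    intro x hx y hy
    rw [hA] at hx hy ⊢
    have := Submodule.mul_mem_mul hx hy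
    rw [Submodule.span_mul_span] at this
    refine Submodule.span_mono ?_ this
    rintro _ ⟨_, ⟨a, rfl⟩, _, ⟨b, rfl⟩, rfl⟩
    exact ⟨a * b, map_mul ev a b⟩
  have hV : IsAffineOpen (p ⁻¹ᵁ U) := hU.preimage p
  have hdiv : ∀ x : T'.residueField t', ∃ b ∈ A, ∃ c ∈ A, c ≠ 0 ∧ x * c = b := by
    intro x
    obtain ⟨y, rfl⟩ := T'.residue_surjective t' x
    let := TopCat.Presheaf.algebra_section_stalk T'.presheaf (U := p ⁻¹ᵁ U) ⟨t', ht⟩
    have := hV.isLocalization_stalk ⟨t', ht⟩
    obtain ⟨⟨b, c⟩, hbc⟩ := IsLocalization.surj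
      (hV.primeIdealOf ⟨t', ht⟩).asIdeal.primeCompl y
    refine ⟨ev b, hev b, ev c, hev c, ?_, ?_⟩
    · have hu : IsUnit (T'.presheaf.germ (p ⁻¹ᵁ U) t' ht (c : Γ(T', p ⁻¹ᵁ U))) :=
        IsLocalization.map_units (T'.presheaf.stalk t') c
      exact (hu.map (T'.residue t').hom).ne_zero
    · exact (map_mul (T'.residue t').hom _ _).symm.trans (congrArg (T'.residue t').hom hbc)
  have htop : A = ⊤ := eq_top_of_mul_mem_of_div A h1 hmul hdiv
  have hAfin : FiniteDimensional (T.residueField (p t')) A := inferInstance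
  constructor
  · exact Module.Finite.equiv ((LinearEquiv.ofEq _ _ htop).trans Submodule.topEquiv)
  · rw [← finrank_top, ← htop]
    exact (finrank_span_finset_le_card _).trans Finset.card_image_le

/-- Residue field degrees of a finite morphism to a quasi-compact scheme are uniformly bounded. -/
theorem exists_bound {T' T : Scheme.{u}} (p : T' ⟶ T) [IsFinite p] [CompactSpace T] :
    ∃ n : ℕ, ∀ (t' : T'),
      letI := (p.residueFieldMap t').hom.toAlgebra
      FiniteDimensional (T.residueField (p t')) (T'.residueField t') ∧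
        Module.finrank (T.residueField (p t')) (T'.residueField t') ≤ n := by
  choose n hn using fun U : T.affineOpens => exists_bound_of_isAffineOpen p U.2
  obtain ⟨s, hs⟩ := isCompact_univ.elim_finite_subcover (fun U : T.affineOpens => (U.1 : Set T))
    (fun U => U.1.2) (fun x _ => by
      obtain ⟨U, hU, hx, -⟩ :=
        exists_isAffineOpen_mem_and_subset (X := T) (x := x) (U := ⊤) trivial
      exact Set.mem_iUnion.mpr ⟨⟨U, hU⟩, hx⟩)
  refine ⟨s.sup n, fun t' => ?_⟩
  obtain ⟨U, hUs, htU⟩ := Set.mem_iUnion₂.mp (hs (Set.mem_univ (p t')))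
  obtain ⟨h1, h2⟩ := hn U t' htU
  exact ⟨h1, h2.trans (Finset.le_sup hUs)⟩

end Groth.Agent.ResDeg95
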